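import Groth.Agent.GrModLib.BassMain
import Groth.Agent.GrModLib.Ext
import Groth.Agent.ProjLib.Auslander
import Mathlib.Algebra.Homology.DerivedCategory.Ext.Linear
import Mathlib.Algebra.Homology.ShortComplex.ModuleCat

/-!
# Injective dimension of graded injective modules
-/

set_option autoImplicit false
universe u

open CategoryTheory CategoryTheory.Abelian

namespace GrInjDimLib

variable {R : Type u} [CommRing R] {Y : ModuleCat.{u} R}

theorem eq_zero_of_exact {A B C : Type u} [AddCommGroup A] [Module R A] [AddCommGroup B] [Module R B]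
    [AddCommGroup C] [Module R C] (f : A →ₗ[R] B) (g : B →ₗ[R] C) (hf : Function.Injective f)
    (hfg : Function.Exact f g) (hg : Function.Surjective g) {n : ℕ}
    (hC : Subsingleton (Ext.{u} (ModuleCat.of R C) Y n)) (x : Ext.{u} (ModuleCat.of R B) Y n)
    (hx : (Ext.mk₀ (ModuleCat.ofHom f)).comp x (zero_add n) = 0) : x = 0 := by
  have hS : (ShortComplex.moduleCatMk f g hfg.linearMap_comp_eq_zero).ShortExact :=
    { exact := (ShortComplex.ShortExact.moduleCat_exact_iff_function_exact _).2 hfg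
      mono_f := (ModuleCat.mono_iff_injective _).2 hf
      epi_g := (ModuleCat.epi_iff_surjective _).2 hg }
  obtain ⟨x₁, hx₁⟩ := Ext.contravariant_sequence_exact₂ hS Y x hx
  have h0 : x₁ = (0 : Ext.{u} (ModuleCat.of R C) Y n) := @Subsingleton.elim _ hC _ _
  subst h0
  exact hx₁.symm.trans (Ext.comp_zero ..)

theorem mk₀_smul_id_comp {X : ModuleCat.{u} R} {n : ℕ} (s : R) (x : Ext.{u} X Y n) :
    (Ext.mk₀ (s • 𝟙 X)).comp x (zero_add n) = s • x := by
  rw [Ext.mk₀_smul, Ext.smul_comp, Ext.mk₀_id_comp]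

theorem ofHom_smul_id (M : Type u) [AddCommGroup M] [Module R M] (s : R) :
    ModuleCat.ofHom (s • (LinearMap.id : M →ₗ[R] M)) = s • 𝟙 (ModuleCat.of R M) := rfl

/-- `s ∉ p` acts injectively on `Extⁿ(R/p, Y)` once `Extⁿ(R/(p+s), Y) = 0`. -/
theorem eq_zero_of_smul (p : Ideal R) [p.IsPrime] {n : ℕ} (s : R) (hs : s ∉ p)
    (hup : Subsingleton (Ext.{u} (ModuleCat.of R (R ⧸ (p ⊔ Ideal.span {s}))) Y n))
    (x : Ext.{u} (ModuleCat.of R (R ⧸ p)) Y n) (hx : s • x = 0) : x = 0 := by
  -- multiplication by `s` is injective on `Ext²(R/p, Y)`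
  refine eq_zero_of_exact (s • (LinearMap.id : (R ⧸ p) →ₗ[R] R ⧸ p))
    (Submodule.factor (le_sup_left : p ≤ p ⊔ Ideal.span {s})) ?_ ?_ (Submodule.factor_surjective _) hup x ?_
  · refine (injective_iff_map_eq_zero _).2 fun y hy => ?_
    obtain ⟨r, rfl⟩ := Submodule.mkQ_surjective p y
    rw [LinearMap.smul_apply, LinearMap.id_apply, ← map_smul, Submodule.mkQ_apply, Submodule.Quotient.mk_eq_zero,
      smul_eq_mul] at hy
    exact (Submodule.Quotient.mk_eq_zero p).2 ((‹p.IsPrime›.mem_or_mem hy).resolve_left hs)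
  · intro y
    obtain ⟨r, rfl⟩ := Submodule.mkQ_surjective p y
    rw [Submodule.mkQ_apply, show Submodule.factor _ (Submodule.Quotient.mk r) = Submodule.Quotient.mk r from rfl,
      Submodule.Quotient.mk_eq_zero]
    constructor
    · intro hr
      obtain ⟨a, ha, b, hb, rfl⟩ := Submodule.mem_sup.1 hr
      obtain ⟨c, rfl⟩ := Ideal.mem_span_singleton'.1 hb
      refine ⟨Submodule.Quotient.mk c, ?_⟩
      rw [LinearMap.smul_apply, LinearMap.id_apply, ← Submodule.Quotient.mk_smul, Submodule.Quotient.eq,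
        smul_eq_mul]
      simpa [mul_comm c s] using p.neg_mem ha
    · rintro ⟨z, hz⟩
      obtain ⟨c, rfl⟩ := Submodule.mkQ_surjective p z
      rw [LinearMap.smul_apply, LinearMap.id_apply, ← map_smul, Submodule.mkQ_apply, Submodule.Quotient.eq,
        smul_eq_mul] at hz
      have : r = s * c - (s * c - r) := by ring
      rw [this]
      exact sub_mem (Ideal.mem_sup_right (Ideal.mul_mem_right _ _ (Ideal.mem_span_singleton_self s)))
        (Ideal.mem_sup_left hz)
  rwa [ofHom_smul_id, mk₀_smul_id_comp]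

/-- The prime step: if `p/q` is locally principal at `p` then `Ext²(R/p, Y) = 0`. -/
theorem smul_ext_two_eq_zero (p : Ideal R) [p.IsPrime] (q : Ideal R) [q.IsPrime] (hqp : q ≤ p)
    (f : R) (hfp : f ∈ p) (hfq : f ∉ q) (s : R)
    (hsf : ∀ x ∈ p, ∃ c, s * x - c * f ∈ q)
    (h1 : Subsingleton (Ext.{u} (ModuleCat.of R (R ⧸ q)) Y 1))
    (h2 : Subsingleton (Ext.{u} (ModuleCat.of R (R ⧸ q)) Y 2))
    (x : Ext.{u} (ModuleCat.of R (R ⧸ p)) Y 2) : s • x = 0 := by
  let g : (R ⧸ q) →ₗ[R] R ⧸ p := Submodule.factor hqp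
  have hS : (ShortComplex.moduleCatMk (LinearMap.ker g).subtype g
      (LinearMap.exact_subtype_ker_map g).linearMap_comp_eq_zero).ShortExact :=
    { exact := (ShortComplex.ShortExact.moduleCat_exact_iff_function_exact _).2 (LinearMap.exact_subtype_ker_map g)
      mono_f := (ModuleCat.mono_iff_injective _).2 (Submodule.injective_subtype _)
      epi_g := (ModuleCat.epi_iff_surjective _).2 (Submodule.factor_surjective hqp) }
  obtain ⟨y, rfl⟩ := Ext.contravariant_sequence_exact₃ hS Y x (n₀ := 1)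
    (@Subsingleton.elim _ h2 _ _) rfl
  suffices hy : s • y = 0 by
    refine (Ext.comp_smul hS.extClass y _ s).symm.trans ?_
    rw [hy]
    exact Ext.comp_zero ..
  let fb : R ⧸ q := Submodule.Quotient.mk f
  have hfb : fb ∈ LinearMap.ker g := by
    rw [LinearMap.mem_ker, show g fb = Submodule.Quotient.mk f from rfl, Submodule.Quotient.mk_eq_zero]
    exact hfp
  let j : (R ⧸ q) →ₗ[R] LinearMap.ker g :=
    Submodule.liftQ q (LinearMap.toSpanSingleton R _ (⟨fb, hfb⟩ : LinearMap.ker g)) fun r hr => by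
      refine Subtype.ext ?_
      show r • fb = 0
      rw [← Submodule.Quotient.mk_smul, Submodule.Quotient.mk_eq_zero, smul_eq_mul]
      exact q.mul_mem_right f hr
  have hj : Function.Injective j := by
    refine (injective_iff_map_eq_zero _).2 fun z hz => ?_
    obtain ⟨r, rfl⟩ := Submodule.mkQ_surjective q z
    have hz' : r • fb = 0 := congrArg Subtype.val hz
    rw [← Submodule.Quotient.mk_smul, Submodule.Quotient.mk_eq_zero, smul_eq_mul] at hz'
    exact (Submodule.Quotient.mk_eq_zero q).2 ((‹q.IsPrime›.mem_or_mem hz').resolve_right hfq)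
  have hrange : ∀ k : LinearMap.ker g, s • k ∈ LinearMap.range j := by
    rintro ⟨k, hk⟩
    obtain ⟨r, rfl⟩ := Submodule.mkQ_surjective q k
    have hr : r ∈ p := by
      have hk' : g (Submodule.Quotient.mk r) = 0 := hk
      rwa [show g (Submodule.Quotient.mk r) = Submodule.Quotient.mk r from rfl,
        Submodule.Quotient.mk_eq_zero] at hk'
    obtain ⟨c, hc⟩ := hsf r hr
    refine ⟨Submodule.Quotient.mk c, Subtype.ext ?_⟩
    show c • fb = s • (Submodule.mkQ q r)
    rw [Submodule.mkQ_apply, ← Submodule.Quotient.mk_smul, ← Submodule.Quotient.mk_smul, Submodule.Quotient.eq,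
      smul_eq_mul, smul_eq_mul]
    have := q.neg_mem hc
    rwa [neg_sub] at this
  let φ : LinearMap.ker g →ₗ[R] R ⧸ q :=
    (LinearEquiv.ofInjective j hj).symm.toLinearMap ∘ₗ (s • LinearMap.id : _ →ₗ[R] LinearMap.ker g).codRestrict _ hrange
  have hjφ : j ∘ₗ φ = s • LinearMap.id := LinearMap.ext fun k =>
    congrArg Subtype.val ((LinearEquiv.ofInjective j hj).apply_symm_apply ⟨s • k, hrange k⟩)
  have hz : (Ext.mk₀ (ModuleCat.ofHom j)).comp y (zero_add 1) = 0 := @Subsingleton.elim _ h1 _ _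
  calc s • y = (Ext.mk₀ (ModuleCat.ofHom (s • LinearMap.id : LinearMap.ker g →ₗ[R] LinearMap.ker g))).comp y
        (zero_add 1) := (mk₀_smul_id_comp s y).symm
    _ = (Ext.mk₀ (ModuleCat.ofHom φ)).comp ((Ext.mk₀ (ModuleCat.ofHom j)).comp y (zero_add 1)) (zero_add 1) := by
      rw [Ext.mk₀_comp_mk₀_assoc, ← ModuleCat.ofHom_comp, hjφ]
      rfl
    _ = 0 := by rw [hz, Ext.comp_zero]

/-- Dévissage. -/
theorem subsingleton_all [IsNoetherianRing R]
    {n : ℕ} (hp : ∀ p : Ideal R, p.IsPrime →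
      ∀ x : Ext.{u} (ModuleCat.of R (R ⧸ p)) Y n, ∃ s, s ∉ p ∧ s • x = 0) (J : Ideal R) :
    Subsingleton (Ext.{u} (ModuleCat.of R (R ⧸ J)) Y n) := by
  refine IsNoetherian.induction (R := R) (M := R)
    (P := fun J : Ideal R => Subsingleton (Ext.{u} (ModuleCat.of R (R ⧸ J)) Y n)) (fun (J : Ideal R) ih => ?_) J
  by_cases hJ : J.IsPrime
  · haveI := hJ
    refine subsingleton_of_forall_eq 0 fun x => ?_
    obtain ⟨s, hs, hsx⟩ := hp J hJ x
    exact eq_zero_of_smul J s hs (ih _ (left_lt_sup.2 fun h => hs (h (Ideal.mem_span_singleton_self s)))) x hsx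
  by_cases htop : J = ⊤
  · haveI : Subsingleton (R ⧸ J) := Submodule.Quotient.subsingleton_iff.2 htop
    refine subsingleton_of_forall_eq 0 fun x => ?_
    have h0 : 𝟙 (ModuleCat.of R (R ⧸ J)) = 0 := (ModuleCat.isZero_of_subsingleton _).eq_of_src _ _
    rw [← x.mk₀_id_comp, h0, Ext.mk₀_zero, Ext.zero_comp]
  obtain ⟨a, ha, b, hb, hab⟩ := Ideal.not_isPrime_iff.1 hJ |>.resolve_left htop
  let K : Ideal R := Submodule.comap (LinearMap.mulLeft R a) J
  have hK : ∀ r, r ∈ K ↔ a * r ∈ J := fun r => Iff.rfl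
  have hJK : J ≤ K := fun r hr => J.mul_mem_left a hr
  refine subsingleton_of_forall_eq 0 fun x => ?_
  refine eq_zero_of_exact (Submodule.mapQ K J (LinearMap.mulLeft R a) le_rfl)
    (Submodule.factor (le_sup_left : J ≤ J ⊔ Ideal.span {a})) ?_ ?_ (Submodule.factor_surjective _)
    (ih _ (left_lt_sup.2 fun h => ha (h (Ideal.mem_span_singleton_self a)))) x
    (@Subsingleton.elim _ (ih K (lt_of_le_of_ne hJK fun e => hb (e ▸ (hK b).2 hab))) _ _)
  · refine (injective_iff_map_eq_zero _).2 fun y hy => ?_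
    obtain ⟨r, rfl⟩ := Submodule.mkQ_surjective K y
    rw [Submodule.mkQ_apply, Submodule.mapQ_apply, Submodule.Quotient.mk_eq_zero] at hy
    exact (Submodule.Quotient.mk_eq_zero K).2 hy
  · intro y
    obtain ⟨r, rfl⟩ := Submodule.mkQ_surjective J y
    rw [Submodule.mkQ_apply, show Submodule.factor _ (Submodule.Quotient.mk r) = Submodule.Quotient.mk r from rfl,
      Submodule.Quotient.mk_eq_zero]
    constructor
    · intro hr
      obtain ⟨z, hz, w, hw, rfl⟩ := Submodule.mem_sup.1 hr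
      obtain ⟨c, rfl⟩ := Ideal.mem_span_singleton'.1 hw
      refine ⟨Submodule.Quotient.mk c, ?_⟩
      rw [Submodule.mapQ_apply, Submodule.Quotient.eq, LinearMap.mulLeft_apply]
      simpa [mul_comm c a] using J.neg_mem hz
    · rintro ⟨z, hz⟩
      obtain ⟨c, rfl⟩ := Submodule.mkQ_surjective K z
      rw [Submodule.mkQ_apply, Submodule.mapQ_apply, Submodule.Quotient.eq, LinearMap.mulLeft_apply] at hz
      have : r = a * c - (a * c - r) := by ring
      rw [this]
      exact sub_mem (Ideal.mem_sup_right (Ideal.mul_mem_right _ _ (Ideal.mem_span_singleton_self a)))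
        (Ideal.mem_sup_left hz)

open GrModLib in
/-- A graded injective module over a ℤ-graded ring has injective dimension at most one. -/
theorem hasInjectiveDimensionLT_two [IsNoetherianRing R] {𝒜 : ℤ → AddSubgroup R} [GradedRing 𝒜] {M : Type u}
    [AddCommGroup M] [Module R M] {ℳ : ℤ → AddSubgroup M} [DirectSum.Decomposition ℳ]
    [SetLike.GradedSMul 𝒜 ℳ] (hM : GrLC.IsStarInj 𝒜 ℳ) : HasInjectiveDimensionLT (ModuleCat.of R M) 2 := by
  refine ProjLib.hasInjectiveDimensionLT_of_cyclic 1 _ (subsingleton_all fun p hp x₀ => ?_)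
  haveI := hp
  have hgr : ∀ (I : Ideal R), I.IsHomogeneous 𝒜 → ∀ i,
      Subsingleton (Ext.{u} (ModuleCat.of R (R ⧸ I)) (ModuleCat.of R M) (i + 1)) := fun I hI i => by
    let Q := quotG 𝒜 (ℳ := 𝒜) I hI
    haveI : Module.Finite R Q.carrier := inferInstanceAs (Module.Finite R (R ⧸ I))
    exact GrModLib.subsingleton_ext hM i Q.carrier Q.gr
  by_cases hph : p.IsHomogeneous 𝒜
  · exact ⟨1, fun h => hp.ne_top ((Ideal.eq_top_iff_one _).2 h), @Subsingleton.elim _ (hgr p hph 1) _ _⟩
  let q := (Ideal.homogeneousCore 𝒜 p).toIdeal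
  haveI hq : q.IsPrime := Ideal.IsPrime.homogeneousCore hp
  have hqh : q.IsHomogeneous 𝒜 := (Ideal.homogeneousCore 𝒜 p).isHomogeneous
  have hqp : q ≤ p := Ideal.toIdeal_homogeneousCore_le 𝒜 p
  let A := Localization.AtPrime p
  let J := q.map (algebraMap R A)
  let π : R →+* A ⧸ J := (Ideal.Quotient.mk J).comp (algebraMap R A)
  obtain ⟨hreg, hdim, hle⟩ := regular_quot p q hqh hqp (notMem_of_notMem_core (p := p))
  haveI : IsRegularLocalRing (A ⧸ J) := hreg
  haveI hP : (p.map (Ideal.Quotient.mk q)).IsPrime :=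
    Ideal.map_isPrime_of_surjective Ideal.Quotient.mk_surjective (by rwa [Ideal.mk_ker])
  have hd : (p.map (Ideal.Quotient.mk q)).height = (1 : ℕ) := by
    refine le_antisymm (hle.trans (by simp)) ?_
    rw [Nat.cast_one, ENat.one_le_iff_ne_zero, ne_eq, Ideal.height_eq_zero_iff, IsDomain.minimalPrimes_eq_singleton_bot,
      Set.mem_singleton_iff]
    intro h
    rw [Ideal.map_eq_bot_iff_le_ker, Ideal.mk_ker] at h
    exact hph (le_antisymm hqp h ▸ hqh)
  have hspan : (IsLocalRing.maximalIdeal (A ⧸ J)).spanFinrank = 1 := by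
    have := IsRegularLocalRing.spanFinrank_maximalIdeal (R := A ⧸ J)
    rw [hdim, hd] at this
    exact_mod_cast this
  obtain ⟨⟨⟨g, hg⟩⟩, hne⟩ := (Submodule.spanFinrank_eq_one_iff _).1 hspan
  obtain ⟨g', rfl⟩ := Ideal.Quotient.mk_surjective g
  obtain ⟨⟨f, t⟩, hft⟩ := IsLocalization.surj p.primeCompl g'
  have hgJ : Ideal.Quotient.mk J g' ∈ IsLocalRing.maximalIdeal (A ⧸ J) :=
    hg ▸ Submodule.mem_span_singleton_self _
  have hft' : Ideal.Quotient.mk J g' * π t = π f := by
    simp only [π, RingHom.comp_apply, ← map_mul, hft]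
  have htu : IsUnit (π t) := (IsLocalization.map_units A t).map (Ideal.Quotient.mk J)
  have hmax : ∀ x, x ∈ p → π x ∈ IsLocalRing.maximalIdeal (A ⧸ J) := by
    intro x hx
    rw [IsLocalRing.mem_maximalIdeal, mem_nonunits_iff]
    intro hu
    obtain ⟨v, hv⟩ := isUnit_iff_exists_inv.1 hu
    obtain ⟨v', rfl⟩ := Ideal.Quotient.mk_surjective v
    rw [show π x = Ideal.Quotient.mk J (algebraMap R A x) from rfl, ← map_mul, ← map_one (Ideal.Quotient.mk J),
      Ideal.Quotient.eq] at hv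
    have hxm : algebraMap R A x ∈ IsLocalRing.maximalIdeal A := by
      rw [← IsLocalization.AtPrime.map_eq_maximalIdeal p A]; exact Ideal.mem_map_of_mem _ hx
    have hJm : J ≤ IsLocalRing.maximalIdeal A := by
      rw [← IsLocalization.AtPrime.map_eq_maximalIdeal p A]; exact Ideal.map_mono hqp
    have h1 := sub_mem (Ideal.mul_mem_right v' _ hxm) (hJm hv)
    rw [sub_sub_cancel] at h1
    exact (IsLocalRing.maximalIdeal.isMaximal A).ne_top ((Ideal.eq_top_iff_one _).2 h1)
  have hfp : f ∈ p := by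
    by_contra hf
    have hu : IsUnit (π f) := (IsLocalization.map_units A (⟨f, hf⟩ : p.primeCompl)).map (Ideal.Quotient.mk J)
    rw [← hft'] at hu
    exact ((IsLocalRing.mem_maximalIdeal _).1 hgJ) (isUnit_of_mul_isUnit_left hu)
  have hcomap : J.comap (algebraMap R A) = q :=
    IsLocalization.comap_map_of_isPrime_disjoint p.primeCompl A hq
      (Set.disjoint_left.2 fun r hr hrq => hr (hqp hrq))
  have hfq : f ∉ q := by
    intro hf
    have h0 : π f = 0 := by
      rw [RingHom.comp_apply, Ideal.Quotient.eq_zero_iff_mem]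
      exact Ideal.mem_map_of_mem _ hf
    rw [← hft', htu.mul_left_eq_zero] at h0
    apply hne
    rw [hg, h0, Submodule.span_singleton_eq_bot]
  have hloc : ∀ x ∈ p, ∃ s, s ∉ p ∧ ∃ c, s * x - c * f ∈ q := by
    intro x hx
    have h1 := hmax x hx
    rw [hg, Submodule.mem_span_singleton] at h1
    obtain ⟨a, ha⟩ := h1
    obtain ⟨a', rfl⟩ := Ideal.Quotient.mk_surjective a
    obtain ⟨⟨c, w⟩, hcw⟩ := IsLocalization.surj p.primeCompl a'
    refine ⟨w * t, fun h => (hp.mem_or_mem h).elim w.2 t.2, c, ?_⟩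
    rw [← hcomap, Ideal.mem_comap, ← Ideal.Quotient.eq_zero_iff_mem]
    show π ((w : R) * t * x - c * f) = 0
    have hcw' : Ideal.Quotient.mk J a' * π w = π c := by simp only [π, RingHom.comp_apply, ← map_mul, hcw]
    rw [map_sub, map_mul, map_mul, map_mul, ← hft', ← hcw', ← ha, smul_eq_mul]
    ring
  obtain ⟨G, hG⟩ := IsNoetherian.noetherian p
  choose s hs c hc using fun x : G => hloc x.1 (hG ▸ Submodule.subset_span x.2)
  refine ⟨∏ x : G, s x, fun h => ?_, smul_ext_two_eq_zero p q hqp f hfp hfq _ (fun x hx => ?_) (hgr q hqh 0)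
    (hgr q hqh 1) x₀⟩
  · obtain ⟨x, -, hxp⟩ := hp.prod_mem_iff.1 h
    exact hs x hxp
  · rw [← hG] at hx
    induction hx using Submodule.span_induction with
    | mem x hx =>
      classical
      obtain ⟨r, hr⟩ : s ⟨x, hx⟩ ∣ ∏ x : G, s x := Finset.dvd_prod_of_mem _ (Finset.mem_univ _)
      refine ⟨r * c ⟨x, hx⟩, ?_⟩
      rw [hr, show s ⟨x, hx⟩ * r * x - r * c ⟨x, hx⟩ * f = r * (s ⟨x, hx⟩ * x - c ⟨x, hx⟩ * f) by ring]
      exact q.mul_mem_left r (hc ⟨x, hx⟩)
    | zero => exact ⟨0, by simp⟩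
    | add x y _ _ hx hy =>
      obtain ⟨a, ha⟩ := hx
      obtain ⟨b, hb⟩ := hy
      exact ⟨a + b, by convert add_mem ha hb using 1; ring⟩
    | smul r x _ hx =>
      obtain ⟨a, ha⟩ := hx
      exact ⟨r * a, by convert q.mul_mem_left r ha using 1; rw [smul_eq_mul]; ring⟩

end GrInjDimLib
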